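import Mathlib
import Cfsg.Agent.S0205
import Cfsg.Agent.H335.CycInt

/-!
# Solvability criteria from the odd order theorem

`solvable_of_cyclic` : a finite group with a cyclic Sylow 2-subgroup is solvable; `solvable_of_normal` : a finite group
with a normal Sylow 2-subgroup is solvable.
-/

set_option autoImplicit false

namespace Cfsg.Agent.H335

open Subgroup

variable {G : Type*} [Group G] [Finite G]

theorem solvable_pGroup {P : Type*} [Group P] [Finite P] (hP : IsPGroup 2 P) : Group.IsSolvable P := by
  have : Fact (Nat.Prime 2) := ⟨Nat.prime_two⟩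
  have : Group.IsNilpotent P := hP.isNilpotent
  infer_instance

/-- a finite group with a cyclic Sylow 2-subgroup is solvable -/
theorem solvable_of_cyclic (S : Sylow 2 G) (hS : IsCyclic (S : Subgroup G)) : Group.IsSolvable G := by
  have h2 : Fact (Nat.Prime 2) := ⟨Nat.prime_two⟩
  by_cases hodd : Odd (Nat.card G)
  · exact Cfsg.Agent.S0205.result hodd
  have heven : 2 ∣ Nat.card G := even_iff_two_dvd.1 (Nat.not_odd_iff_even.1 hodd)
  have hmin : (Nat.card G).minFac = 2 := (Nat.minFac_eq_two_iff _).2 heven
  have hc := IsCyclic.isComplement' hmin hS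
  set K := (MonoidHom.transferSylow S (IsCyclic.normalizer_le_centralizer hmin hS)).ker with hK
  have hKodd : Odd (Nat.card K) := by
    have h4 : (S : Subgroup G).index = Nat.card K := hc.index_eq_card
    rw [← Nat.not_even_iff_odd, even_iff_two_dvd, ← h4]
    exact S.not_dvd_index
  have : Group.IsSolvable K := Cfsg.Agent.S0205.result hKodd
  have h5 : Group.IsSolvable (G ⧸ K) := by
    have h6 : IsPGroup 2 (G ⧸ K) := by
      have h7 : Nat.card (G ⧸ K) = Nat.card (S : Subgroup G) := hc.symm.index_eq_card
      obtain ⟨n, hn⟩ := IsPGroup.iff_card.1 S.2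
      exact IsPGroup.of_card (h7.trans hn)
    exact solvable_pGroup h6
  exact (Group.isSolvable_iff_subgroup_quotient K).2 ⟨this, h5⟩

/-- a finite group with a normal Sylow 2-subgroup is solvable -/
theorem solvable_of_normal (S : Sylow 2 G) (hS : (S : Subgroup G).Normal) : Group.IsSolvable G := by
  have h2 : Fact (Nat.Prime 2) := ⟨Nat.prime_two⟩
  have h1 : Group.IsSolvable (S : Subgroup G) := solvable_pGroup S.2
  have h3 : Group.IsSolvable (G ⧸ (S : Subgroup G)) := by
    apply Cfsg.Agent.S0205.result
    rw [← Nat.not_even_iff_odd, even_iff_two_dvd]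
    exact S.not_dvd_index
  exact (Group.isSolvable_iff_subgroup_quotient (S : Subgroup G)).2 ⟨h1, h3⟩

/-- if all Sylow 2-subgroups are equal the group is solvable -/
theorem solvable_of_unique (S : Sylow 2 G) (hS : ∀ T : Sylow 2 G, T = S) : Group.IsSolvable G := by
  refine solvable_of_normal S ⟨fun n hn g => ?_⟩
  have h1 := hS (g • S)
  have h2 : g * n * g⁻¹ ∈ ((g • S : Sylow 2 G) : Subgroup G) := by
    rw [mem_smul_sylow]
    have : g⁻¹ * (g * n * g⁻¹) * g = n := by group
    rw [this]; exact hn
  rwa [h1] at h2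

/-- a nonsolvable finite group has two distinct Sylow 2-subgroups -/
theorem exists_ne_sylow (h : ¬ Group.IsSolvable G) (S : Sylow 2 G) : ∃ T : Sylow 2 G, T ≠ S := by
  by_contra hcon
  push Not at hcon
  exact h (solvable_of_unique S hcon)

omit [Finite G] in
theorem not_solvable_of_simple [IsSimpleGroup G] (hna : ∃ a b : G, a * b ≠ b * a) : ¬ Group.IsSolvable G := by
  intro h
  obtain ⟨a, b, hab⟩ := hna
  exact hab (IsSimpleGroup.comm_iff_isSolvable.2 h a b)

/-- two commuting subgroups: one is solvable, or the 2-subgroups of the other one are cyclic -/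
theorem CycInt.solvable_of_commute (h : CycInt G) {A B : Subgroup G} (hAB : ∀ a ∈ A, ∀ b ∈ B, a * b = b * a)
    {P : Subgroup G} (hPB : P ≤ B) (hP : IsPGroup 2 P) (hnc : ¬ IsCyclic P) : Group.IsSolvable A := by
  have h2 : Fact (Nat.Prime 2) := ⟨Nat.prime_two⟩
  obtain ⟨S, hPS⟩ := hP.exists_le_sylow
  have key : ∀ T : Sylow 2 A, (T : Subgroup A).map A.subtype ≤ S := by
    intro T
    set T' := (T : Subgroup A).map A.subtype with hT'
    have hT'A : T' ≤ A := map_subtype_le _
    have hT'2 : IsPGroup 2 T' := T.2.map _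
    have hN : T' ≤ normalizer (P : Set G) := by
      intro t ht
      rw [mem_normalizer_iff]
      intro x
      constructor
      · intro hx
        rw [hAB t (hT'A ht) x (hPB hx), mul_inv_cancel_right]
        exact hx
      · intro hx
        have h3 := hAB t (hT'A ht) _ (hPB hx)
        have h4 : x = t * x * t⁻¹ := by
          calc x = t⁻¹ * (t * x * t⁻¹) * t := by group
            _ = t⁻¹ * ((t * x * t⁻¹) * t) := by group
            _ = t⁻¹ * (t * (t * x * t⁻¹)) := by rw [h3]
            _ = t * x * t⁻¹ := by group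
        rw [h4]; exact hx
    have hsup : IsPGroup 2 (P ⊔ T' : Subgroup G) := by
      rw [sup_comm]
      exact IsPGroup.to_sup_of_normal_right' hT'2 hP hN
    obtain ⟨U, hU⟩ := hsup.exists_le_sylow
    have h5 := h.eq_of_le hnc hPS (le_sup_left.trans hU)
    rw [h5]
    exact le_sup_right.trans hU
  obtain ⟨T₀⟩ : Nonempty (Sylow 2 A) := inferInstance
  refine solvable_of_unique T₀ fun T => ?_
  have h3 : IsPGroup 2 ((S : Subgroup G).comap A.subtype) := S.2.comap_of_injective _ A.subtype_injective
  have h4 : (S : Subgroup G).comap A.subtype = T := T.3 h3 (map_le_iff_le_comap.1 (key T))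
  have h5 : (S : Subgroup G).comap A.subtype = T₀ := T₀.3 h3 (map_le_iff_le_comap.1 (key T₀))
  exact Sylow.ext (h4.symm.trans h5)

end Cfsg.Agent.H335
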