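import Mathlib
import Cfsg.Agent.S0222
import Cfsg.Agent.S0252
import Cfsg.Agent.S0253
import Cfsg.Agent.TwoFusion.SLTwoFacts
import Cfsg.Agent.S0343
import Cfsg.Agent.S1169
import Cfsg.Agent.StrongEmb.Strong
import Cfsg.Agent.Walter.StepAll
import Cfsg.Agent.Walter.PairsRot
import Cfsg.Agent.H335.Solv
import Cfsg.Agent.H335.Fusion

/-!
# Simple groups in which distinct Sylow 2-subgroups meet in cyclic groups

`CycInt.simple` : a nonabelian simple group `G` with `CycInt G` is in the list `Walter.Types.WType` (with abelian Sylow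
2-subgroups) or is a Suzuki group or `PSU(3, 2^n)`, `n ≥ 2`. `CycInt.final` : the list of S3308.
-/

set_option autoImplicit false

namespace Cfsg.Agent.H335

open Subgroup Cfsg
open Cfsg.Agent.Walter.Types

variable {G : Type*} [Group G] [Finite G]

theorem not_cyclic_of_simple [IsSimpleGroup G] (hna : ∃ a b : G, a * b ≠ b * a) (S : Sylow 2 G) :
    ¬ IsCyclic (S : Subgroup G) := fun h => not_solvable_of_simple hna (solvable_of_cyclic S h)

theorem not_cyclic_of_nonsolvable (hns : ¬ Group.IsSolvable G) (S : Sylow 2 G) :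
    ¬ IsCyclic (S : Subgroup G) := fun h => hns (solvable_of_cyclic S h)

omit [Finite G] in
theorem ne_bot_of_not_cyclic {S : Subgroup G} (h : ¬ IsCyclic S) : S ≠ ⊥ := by
  rintro rfl
  exact h inferInstance

theorem z2_ne : Multiplicative.ofAdd (1 : ZMod 2) ≠ 1 := by decide

theorem z2_sq : Multiplicative.ofAdd (1 : ZMod 2) * Multiplicative.ofAdd (1 : ZMod 2) = 1 := by decide

omit [Finite G] in
theorem sq_eq_one {x : G} (h : orderOf x = 2) : x ^ 2 = 1 := by
  have h1 := pow_orderOf_eq_one x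
  rwa [h] at h1

/-- trivial intersection -/
theorem ti_of_prod {M : Type*} [Group M] [Finite M] (h : CycInt (Multiplicative (ZMod 2) × M)) (S T : Sylow 2 M)
    (hne : S ≠ T) : (S : Subgroup M) ⊓ T = ⊥ := by
  have h2 : Fact (Nat.Prime 2) := ⟨Nat.prime_two⟩
  by_contra hbot
  have hz : IsPGroup 2 (Multiplicative (ZMod 2)) := by
    refine IsPGroup.of_card (n := 1) ?_
    rw [Nat.card_congr Multiplicative.toAdd, Nat.card_zmod, pow_one]
  have key : ∀ U : Sylow 2 M, IsPGroup 2 ((⊤ : Subgroup (Multiplicative (ZMod 2))).prod (U : Subgroup M)) := by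
    intro U
    obtain ⟨n, hn⟩ := IsPGroup.iff_card.1 U.2
    obtain ⟨m, hm⟩ := IsPGroup.iff_card.1 hz
    refine IsPGroup.of_card (n := m + n) ?_
    rw [Nat.card_congr ((⊤ : Subgroup (Multiplicative (ZMod 2))).prodEquiv (U : Subgroup M)).toEquiv, Nat.card_prod,
      hn, card_top, hm, pow_add]
  obtain ⟨A, hA⟩ := (key S).exists_le_sylow
  obtain ⟨B, hB⟩ := (key T).exists_le_sylow
  have hproj : ∀ (U : Sylow 2 M) (X : Sylow 2 (Multiplicative (ZMod 2) × M)),
      (⊤ : Subgroup (Multiplicative (ZMod 2))).prod (U : Subgroup M) ≤ X →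
      (X : Subgroup (Multiplicative (ZMod 2) × M)).map (MonoidHom.snd _ _) = U := by
    intro U X hX
    have h3 : IsPGroup 2 ((X : Subgroup (Multiplicative (ZMod 2) × M)).map (MonoidHom.snd _ _)) := X.2.map _
    refine U.3 h3 ?_
    intro u hu
    exact ⟨(1, u), hX ⟨mem_top _, hu⟩, rfl⟩
  have hAB : A ≠ B := by
    rintro rfl
    exact hne (Sylow.ext ((hproj S A hA).symm.trans (hproj T A hB)))
  have hcyc := h A B hAB
  -- an involution in the intersection
  obtain ⟨x, hx, hx2, -⟩ := exists_central_involution (S.2.to_le (inf_le_left : (S : Subgroup M) ⊓ T ≤ S)) hbot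
  have hxx : x * x = 1 := by rw [← pow_two, ← hx2]; exact pow_orderOf_eq_one x
  have hx1 : x ≠ 1 := by rintro rfl; simp at hx2
  have m1 : ((1, x) : Multiplicative (ZMod 2) × M) ∈ (A : Subgroup _) ⊓ (B : Subgroup _) :=
    ⟨hA ⟨mem_top _, hx.1⟩, hB ⟨mem_top _, hx.2⟩⟩
  have m2 : ((Multiplicative.ofAdd 1, 1) : Multiplicative (ZMod 2) × M) ∈ (A : Subgroup _) ⊓ (B : Subgroup _) :=
    ⟨hA ⟨mem_top _, one_mem _⟩, hB ⟨mem_top _, one_mem _⟩⟩
  have o1 : orderOf ((1, x) : Multiplicative (ZMod 2) × M) = 2 := by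
    apply orderOf_eq_two
    · intro h5; exact hx1 (congrArg Prod.snd h5)
    · exact Prod.ext (by simp) hxx
  have o2 : orderOf ((Multiplicative.ofAdd 1, 1) : Multiplicative (ZMod 2) × M) = 2 := by
    apply orderOf_eq_two
    · intro h5
      exact z2_ne (congrArg Prod.fst h5)
    · exact Prod.ext z2_sq (by simp)
  have h7 := eq_of_cyclic (x := (⟨_, m1⟩ : ↥((A : Subgroup (Multiplicative (ZMod 2) × M)) ⊓ (B : Subgroup _))))
    (y := ⟨_, m2⟩) (by rw [Subgroup.orderOf_mk]; exact o1) (by rw [Subgroup.orderOf_mk]; exact o2)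
  have h8 : ((1, x) : Multiplicative (ZMod 2) × M) = (Multiplicative.ofAdd 1, 1) := congrArg Subtype.val h7
  exact hx1 (congrArg Prod.snd h8)

/-- independent Sylow 2-subgroups: the normaliser is strongly embedded -/
theorem stronglyEmbedded_of_ti (hTI : ∀ S T : Sylow 2 G, S ≠ T → (S : Subgroup G) ⊓ T = ⊥) (S : Sylow 2 G)
    (hS : (S : Subgroup G) ≠ ⊥) (hn : ¬ (S : Subgroup G).Normal) :
    IsStronglyEmbedded (normalizer ((S : Subgroup G) : Set G)) := by
  have h2 : Fact (Nat.Prime 2) := ⟨Nat.prime_two⟩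
  refine ⟨?_, ?_, ?_⟩
  · intro h
    exact hn (normalizer_eq_top_iff.1 h)
  · rw [even_iff_two_dvd]
    obtain ⟨n, hnc⟩ := IsPGroup.iff_card.1 S.2
    have h3 : n ≠ 0 := by
      rintro rfl
      exact hS (card_eq_one.1 (by rw [hnc, pow_zero]))
    exact ((dvd_pow_self 2 h3).trans hnc.symm.dvd).trans (card_dvd_of_le le_normalizer)
  · intro g hg
    by_contra hodd
    rw [Nat.not_odd_iff_even, even_iff_two_dvd] at hodd
    obtain ⟨t, ht⟩ := exists_prime_orderOf_dvd_card' 2 hodd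
    have ht2 : orderOf (t : G) = 2 := by rw [Subgroup.orderOf_coe, ht]
    have htt : (t : G) ^ 2 ^ 1 = 1 := by rw [pow_one]; exact sq_eq_one ht2
    have h3 : (t : G) ∈ (S : Subgroup G) := Walter.PSLFacts.mem_of_pow S t.2.1 htt
    obtain ⟨y, hy, hyt⟩ := t.2.2
    have hyt' : g * y * g⁻¹ = t := hyt
    have hyy : y ^ 2 ^ 1 = 1 := by
      have : y = g⁻¹ * t * g := by rw [← hyt']; group
      rw [this]
      have h4 : (g⁻¹ * (t : G) * g) ^ 2 ^ 1 = g⁻¹ * ((t : G) ^ 2 ^ 1) * g := by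
        rw [pow_one, pow_two, pow_two]; group
      rw [h4, htt]; group
    have h5 : y ∈ (S : Subgroup G) := Walter.PSLFacts.mem_of_pow S hy hyy
    have h6 : (t : G) ∈ ((g • S : Sylow 2 G) : Subgroup G) := by
      rw [mem_smul_sylow, ← hyt']
      have : g⁻¹ * (g * y * g⁻¹) * g = y := by group
      rw [this]; exact h5
    have h7 : g • S ≠ S := fun h => hg (Sylow.smul_eq_iff_mem_normalizer.1 h)
    have h8 : (t : G) ∈ ((g • S : Sylow 2 G) : Subgroup G) ⊓ S := ⟨h6, h3⟩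
    rw [hTI _ _ h7, mem_bot] at h8
    rw [h8, orderOf_one] at ht2
    omega

theorem exists_noncomm_of_four {M : Type*} [Group M] [Finite M] [IsSimpleGroup M] (h4 : 4 ∣ Nat.card M) :
    ∃ a b : M, a * b ≠ b * a := by
  by_contra hcon
  push Not at hcon
  have h2 : Fact (Nat.Prime 2) := ⟨Nat.prime_two⟩
  obtain ⟨x, hx⟩ := exists_prime_orderOf_dvd_card' (G := M) 2 ((by norm_num : 2 ∣ 4).trans h4)
  have hn : (zpowers x).Normal := ⟨fun n hn g => by rw [hcon g n, mul_inv_cancel_right]; exact hn⟩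
  rcases hn.eq_bot_or_eq_top with h | h
  · rw [zpowers_eq_bot] at h
    rw [h, orderOf_one] at hx
    omega
  · have h3 : Nat.card M = 2 := by
      rw [← hx, ← Nat.card_zpowers, h, card_top]
    rw [h3] at h4
    omega

theorem bender [IsSimpleGroup G] (hna : ∃ a b : G, a * b ≠ b * a) : Walter.AutFacts.Bender G :=
  fun M hM => Cfsg.Agent.S0222.result hna M hM

/-- `Z₂ × PSL(2,q)`, `q ≡ 3, 5 mod 8`, `q > 5`, has two Sylow 2-subgroups with a four-group in common. -/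
theorem card_eq_five {F : Type*} [Field F] [Fintype F] (h8 : Fintype.card F % 8 = 3 ∨ Fintype.card F % 8 = 5)
    (h5 : 5 ≤ Fintype.card F)
    (h : CycInt (Multiplicative (ZMod 2) × Matrix.ProjectiveSpecialLinearGroup (Fin 2) F)) : Fintype.card F = 5 := by
  by_contra hne
  have h11 : 11 ≤ Fintype.card F := by omega
  have hs : IsSimpleGroup (Matrix.ProjectiveSpecialLinearGroup (Fin 2) F) :=
    TwoFusion.SLTwoFacts.isSimpleGroup_psl (by omega)
  obtain ⟨S⟩ : Nonempty (Sylow 2 (Matrix.ProjectiveSpecialLinearGroup (Fin 2) F)) := inferInstance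
  have h4 := (Walter.PSLFacts.odd_facts h8 (MulEquiv.refl _) S).2.1
  have hna := exists_noncomm_of_four (M := Matrix.ProjectiveSpecialLinearGroup (Fin 2) F)
    (h4 ▸ card_subgroup_dvd_card _)
  have hbot : (S : Subgroup (Matrix.ProjectiveSpecialLinearGroup (Fin 2) F)) ≠ ⊥ := by
    intro hb
    rw [hb, card_bot] at h4
    omega
  refine Walter.PSLFacts.odd_not_stronglyEmbedded h8 h11 (MulEquiv.refl _) (bender hna) _
    (stronglyEmbedded_of_ti (ti_of_prod h) S hbot ?_)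
  intro hn
  exact not_solvable_of_simple hna (solvable_of_normal S hn)

/-- **Simple groups.** -/
theorem CycInt.simple [IsSimpleGroup G] (hna : ∃ a b : G, a * b ≠ b * a) (h : CycInt G) :
    (WType G ∧ (IsJR G → IsJ1 G)) ∨ Cfsg.Lie.IsoSuzuki G ∨
      (∃ (F : Type) (_ : Field F) (_ : Fintype F) (n : ℕ), 2 ≤ n ∧
        Fintype.card F = (2 ^ n) ^ 2 ∧ Nonempty (G ≃* Cfsg.PSU 3 F (2 ^ n))) := by
  have h2 : Fact (Nat.Prime 2) := ⟨Nat.prime_two⟩
  obtain ⟨S⟩ : Nonempty (Sylow 2 G) := inferInstance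
  have hnc := not_cyclic_of_simple hna S
  have hne := ne_bot_of_not_cyclic hnc
  have hJ : IsJR G → IsJ1 G := by
    intro hJR
    have h1 := (Walter.TypeSylow.card_sylow_JR hJR S)
    have hab : ∀ P : Sylow 2 G, ∀ a b : P, a * b = b * a := by
      intro P a b
      apply Subtype.ext
      have h3 := (Walter.TypeSylow.card_sylow_JR hJR P).2
      have ha := h3 a a.2
      have hb := h3 b b.2
      have hab := h3 (a * b) (mul_mem a.2 b.2)
      have ha' : (a : G)⁻¹ = a := inv_eq_of_mul_eq_one_left ha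
      have hb' : (b : G)⁻¹ = b := inv_eq_of_mul_eq_one_left hb
      have hab' : ((a : G) * b)⁻¹ = a * b := inv_eq_of_mul_eq_one_left hab
      change (a : G) * b = b * a
      rw [← hab', _root_.mul_inv_rev, ha', hb']
    obtain ⟨-, F, i1, i2, h8, h5, hc⟩ := hJR
    obtain ⟨t, ht⟩ : ∃ t : G, orderOf t = 2 := by
      apply exists_prime_orderOf_dvd_card'
      exact (by norm_num : 2 ∣ 8).trans (h1.1 ▸ card_subgroup_dvd_card _)
    obtain ⟨e⟩ := hc t ht
    have hq : Fintype.card F = 5 := card_eq_five h8 h5 ((h.subgroup (centralizer ({t} : Set G))).congr e)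
    rcases Cfsg.Agent.S0343.result hab (by omega) t ht ⟨e⟩ with ⟨m, hm, hF, -⟩ | ⟨-, hJ⟩
    · exfalso
      rw [hq] at hF
      have h6 : 3 ∣ 3 ^ (2 * m + 1) := dvd_pow_self 3 (by omega)
      rw [← hF] at h6
      omega
    · exact hJ
  rcases Cfsg.Agent.S1169.result S (omz (S : Subgroup G)) (omz_ne_bot S.2 hne) (omz_comm _) (h.closed S hnc) with hc | ⟨H, hH⟩
  · left
    refine ⟨?_, hJ⟩
    refine Walter.Main.wType_of_step Walter.StepAll.step G inferInstance ?_ S
      (Walter.Main.comm_of_isMulCommutative hc)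
    intro hm
    obtain ⟨a, b, hab⟩ := hna
    exact hab (hm.is_comm.comm a b)
  · rcases Cfsg.Agent.StrongEmb.Strong.result hna H hH with ⟨F, i1, i2, ⟨n, hn, hF⟩, he⟩ | h3 | h3
    · exact Or.inl ⟨Or.inl ⟨F, i1, i2, n, hn, hF, he⟩, hJ⟩
    · exact Or.inr (Or.inl h3)
    · exact Or.inr (Or.inr h3)

/-- the list of S3308 -/
def Final (G : Type*) [Group G] : Prop :=
  (∃ (n : ℕ) (F : Type) (_ : Field F) (_ : Fintype F), 2 ≤ n ∧ Fintype.card F = 2 ^ n ∧
      Nonempty (G ≃* Matrix.ProjectiveSpecialLinearGroup (Fin 2) F)) ∨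
  (∃ (m : ℕ) (F : Type) (_ : Field F) (_ : Fintype F), 1 ≤ m ∧ Fintype.card F = 2 ^ (2 * m + 1) ∧
      Nonempty (G ≃* ↥(Cfsg.Lie.Sz F (2 ^ (m + 1))))) ∨
  (∃ (n : ℕ) (F : Type) (_ : Field F) (_ : Fintype F), 2 ≤ n ∧ Fintype.card F = 4 ^ n ∧
      Nonempty (G ≃* Cfsg.PSU 3 F (2 ^ n))) ∨
  (∃ (F : Type) (_ : Field F) (_ : Fintype F), (Fintype.card F % 8 = 3 ∨ Fintype.card F % 8 = 5) ∧ 5 < Fintype.card F ∧
      Nonempty (G ≃* Matrix.ProjectiveSpecialLinearGroup (Fin 2) F)) ∨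
  Cfsg.IsJ1 G

theorem exists_field_four : ∃ (F : Type) (_ : Field F) (_ : Fintype F), Fintype.card F = 4 := by
  have h2 : Fact (Nat.Prime 2) := ⟨Nat.prime_two⟩
  let i : Fintype (GaloisField 2 2) := Fintype.ofFinite _
  refine ⟨GaloisField 2 2, inferInstance, i, ?_⟩
  rw [← Nat.card_eq_fintype_card, GaloisField.card 2 2 (by norm_num)]
  norm_num

theorem final_of_simple {G : Type*} [Group G] (h : (WType G ∧ (IsJR G → IsJ1 G)) ∨ Cfsg.Lie.IsoSuzuki G ∨
      (∃ (F : Type) (_ : Field F) (_ : Fintype F) (n : ℕ), 2 ≤ n ∧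
        Fintype.card F = (2 ^ n) ^ 2 ∧ Nonempty (G ≃* Cfsg.PSU 3 F (2 ^ n)))) : Final G := by
  rcases h with ⟨⟨F, i1, i2, n, hn, hF, he⟩ | ⟨F, i1, i2, h8, h5, ⟨e⟩⟩ | h, hJ⟩ | ⟨F, i1, i2, m, hm, hF, he⟩ |
    ⟨F, i1, i2, n, hn, hF, he⟩
  · exact Or.inl ⟨n, F, i1, i2, hn, hF, he⟩
  · by_cases hq : Fintype.card F = 5
    · left
      obtain ⟨E, j1, j2, hE⟩ := exists_field_four
      obtain ⟨f⟩ := Cfsg.Agent.S0252.result (F := E) hE
      obtain ⟨g⟩ := Cfsg.Agent.S0253.result (F := F) hq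
      exact ⟨2, E, j1, j2, le_rfl, by rw [hE]; norm_num, ⟨e.trans (g.trans f.symm)⟩⟩
    · right; right; right; left
      exact ⟨F, i1, i2, h8, by omega, ⟨e⟩⟩
  · exact Or.inr (Or.inr (Or.inr (Or.inr (hJ h))))
  · exact Or.inr (Or.inl ⟨m, F, i1, i2, hm, hF, he⟩)
  · refine Or.inr (Or.inr (Or.inl ⟨n, F, i1, i2, hn, ?_, he⟩))
    rw [hF, ← pow_mul, mul_comm, pow_mul]
    norm_num

end Cfsg.Agent.H335
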