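import Mathlib
import Cfsg.Agent.Characters.CNBasic
import Cfsg.Agent.PLocal.ThompsonFrattini
import Cfsg.Agent.Walter.AbInner
import Cfsg.Agent.H335.Simple

/-!
# Almost simple groups in which distinct Sylow 2-subgroups meet in cyclic groups

`AS L S` : `L` is a simple normal subgroup with trivial centralizer of the finite group `G`, `CycInt G`, `S` a Sylow
2-subgroup. `AS.le_of_wType` : `S ≤ L` if `L` is in the list `WType`.
-/

set_option autoImplicit false

namespace Cfsg.Agent.H335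

open Subgroup Cfsg
open Cfsg.Agent.Walter.Types

/-- `L` a simple normal subgroup with trivial centralizer, `CycInt G`, `S` a Sylow 2-subgroup -/
structure AS {G : Type*} [Group G] (L : Subgroup G) (S : Sylow 2 G) : Prop where
  cyc : CycInt G
  normal : L.Normal
  simple : IsSimpleGroup L
  nonab : ∃ a b : L, a * b ≠ b * a
  cent : centralizer (L : Set G) = ⊥

namespace AS

variable {G : Type*} [Group G] [Finite G] {L : Subgroup G} {S : Sylow 2 G}

theorem exists_sylow (h : AS L S) : ∃ P : Sylow 2 L, (P : Subgroup L) = (S : Subgroup G).subgroupOf L := by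
  have h2 : Fact (Nat.Prime 2) := ⟨Nat.prime_two⟩
  have := h.normal
  exact PLocal.ThompsonFrattini.exists_sylow_subgroupOf S L

/-- `S ∩ L` is not cyclic -/
theorem not_cyclic (h : AS L S) : ¬ IsCyclic ↥((S : Subgroup G) ⊓ L) := by
  obtain ⟨P, hP⟩ := h.exists_sylow
  have := h.simple
  have h1 := not_cyclic_of_simple h.nonab P
  intro hc
  apply h1
  have h3 : (P : Subgroup L).map L.subtype = (S : Subgroup G) ⊓ L := by
    rw [hP, subgroupOf_map_subtype]
  have e := (P : Subgroup L).equivMapOfInjective L.subtype L.subtype_injective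
  rw [← h3] at hc
  exact isCyclic_of_injective e.toMonoidHom e.injective

/-- `N_L(S ∩ L)` normalises `S` -/
theorem norm (h : AS L S) {n : G} (hn : ∀ x ∈ (S : Subgroup G) ⊓ L, n * x * n⁻¹ ∈ (S : Subgroup G)) :
    n ∈ normalizer ((S : Subgroup G) : Set G) := by
  refine Sylow.smul_eq_iff_mem_normalizer.1 ?_
  have h1 : ¬ IsCyclic ↥(((S : Subgroup G) ⊓ L).map (MulAut.conj n).toMonoidHom) := by
    intro hc
    apply h.not_cyclic
    exact isCyclic_of_injective
      ((((S : Subgroup G) ⊓ L).equivMapOfInjective (MulAut.conj n).toMonoidHom (MulAut.conj n).injective).toMonoidHom)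
      (MulEquiv.injective _)
  refine h.cyc.eq_of_le h1 ?_ ?_
  · rintro _ ⟨x, hx, rfl⟩
    rw [mem_smul_sylow]
    change n⁻¹ * (n * x * n⁻¹) * n ∈ _
    have : n⁻¹ * (n * x * n⁻¹) * n = x := by group
    rw [this]
    exact hx.1
  · rintro _ ⟨x, hx, rfl⟩
    exact hn x hx

/-- elements of `N_L(P)` normalise `S` -/
theorem norm_of_mem (h : AS L S) {P : Sylow 2 L} (hP : (P : Subgroup L) = (S : Subgroup G).subgroupOf L) {n : L}
    (hn : n ∈ normalizer ((P : Subgroup L) : Set L)) : (n : G) ∈ normalizer ((S : Subgroup G) : Set G) := by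
  refine h.norm fun x hx => ?_
  have h1 : (⟨x, hx.2⟩ : L) ∈ (P : Subgroup L) := by rw [hP]; exact hx.1
  have h2 := (mem_normalizer_iff.1 hn _).1 h1
  rw [hP] at h2
  exact h2

/-- the commutator of `s ∈ S` with `n ∈ N_L(S ∩ L)` lies in `S ∩ L` -/
theorem comm_mem (h : AS L S) {P : Sylow 2 L} (hP : (P : Subgroup L) = (S : Subgroup G).subgroupOf L) {n : L}
    (hn : n ∈ normalizer ((P : Subgroup L) : Set L)) {s : G} (hs : s ∈ (S : Subgroup G)) :
    s * n * s⁻¹ * (n : G)⁻¹ ∈ (S : Subgroup G) ⊓ L := by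
  have h1 := h.norm_of_mem hP hn
  constructor
  · have h3 : (n : G) * s⁻¹ * (n : G)⁻¹ ∈ (S : Subgroup G) :=
      (mem_normalizer_iff.1 h1 s⁻¹).1 ((S : Subgroup G).inv_mem hs)
    have h4 : s * n * s⁻¹ * (n : G)⁻¹ = s * (n * s⁻¹ * (n : G)⁻¹) := by group
    rw [h4]
    exact (S : Subgroup G).mul_mem hs h3
  · exact L.mul_mem (h.normal.conj_mem _ n.2 s) (L.inv_mem n.2)

/-- **abelian case** -/
theorem le_of_wType (h : AS L S) (hW : WType L) : (S : Subgroup G) ≤ L := by
  have h2 : Fact (Nat.Prime 2) := ⟨Nat.prime_two⟩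
  have hn := h.normal
  have hsim := h.simple
  obtain ⟨P, hP⟩ := h.exists_sylow
  set S₀ := (S : Subgroup G) ⊓ L with hS₀
  have hne : S₀ ≠ ⊥ := ne_bot_of_not_cyclic h.not_cyclic
  -- `S₀ ≤ Z(S)`
  have hcen : ∀ x ∈ S₀, ∀ s ∈ (S : Subgroup G), s * x = x * s := by
    obtain ⟨w, hw, hw1, hwc⟩ := Characters.CNBasic.exists_mem_center_of_normal (S : Subgroup G) S.2 S₀
      (S.2.to_le inf_le_left) hne (fun t ht d hd => ⟨mul_mem (mul_mem ht hd.1) ((S : Subgroup G).inv_mem ht), hn.conj_mem _ hd.2 t⟩)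
    intro x hx s hs
    by_cases hx1 : x = 1
    · rw [hx1]; simp
    have hwP : (⟨w, hw.2⟩ : L) ∈ (P : Subgroup L) := by rw [hP]; exact hw.1
    have hxP : (⟨x, hx.2⟩ : L) ∈ (P : Subgroup L) := by rw [hP]; exact hx.1
    obtain ⟨n, hn, hnx⟩ := Walter.PairsRot.exists_normalizer_conj hW h.nonab P _ hwP
      (fun hc => hw1 (congrArg Subtype.val hc)) _ hxP (fun hc => hx1 (congrArg Subtype.val hc))
    have hnx' : (n : G) * w * (n : G)⁻¹ = x := congrArg Subtype.val hnx
    have h3 := h.norm_of_mem hP hn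
    have h4 : (n : G)⁻¹ * s * n ∈ (S : Subgroup G) := by
      have := (mem_normalizer_iff.1 (inv_mem h3) s).1 hs
      rwa [inv_inv] at this
    calc s * x = n * ((n : G)⁻¹ * s * n * w) * (n : G)⁻¹ := by rw [← hnx']; group
      _ = n * (w * ((n : G)⁻¹ * s * n)) * (n : G)⁻¹ := by rw [hwc _ h4]
      _ = x * s := by rw [← hnx']; group
  intro t ht
  -- `H = L ⟨t⟩`
  set H := L ⊔ zpowers t with hH
  have htH : t ∈ H := mem_sup_right (mem_zpowers t)
  have hLH : L ≤ H := le_sup_left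
  set A₀ := (S : Subgroup G) ⊓ H with hA₀
  have hA₀2 : IsPGroup 2 (A₀.subgroupOf H) := (S.2.to_le inf_le_left).comap_of_injective _ H.subtype_injective
  obtain ⟨A, hA⟩ := hA₀2.exists_le_sylow
  -- `A ≤ S`
  have hAS : ∀ a ∈ (A : Subgroup H), (a : G) ∈ (S : Subgroup G) := by
    obtain ⟨T, hT⟩ := (A.2.map H.subtype).exists_le_sylow
    have h5 : S₀ ≤ T := by
      refine le_trans ?_ hT
      intro a ha
      exact ⟨⟨a, hLH ha.2⟩, hA (show a ∈ A₀ from ⟨ha.1, hLH ha.2⟩), rfl⟩
    have h6 : S = T := h.cyc.eq_of_le h.not_cyclic inf_le_left h5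
    intro a ha
    rw [h6]
    exact hT ⟨a, ha, rfl⟩
  have hform : ∀ a ∈ (A : Subgroup H), ∃ x ∈ S₀, ∃ k : ℤ, (a : G) = x * t ^ k := by
    intro a ha
    have h3 : (a : G) ∈ L ⊔ zpowers t := a.2
    rw [mem_sup_of_normal_left] at h3
    obtain ⟨l, hl, y, ⟨k, rfl⟩, hly⟩ := h3
    have h3 : (a : G) = l * t ^ k := hly.symm
    refine ⟨l, ⟨?_, hl⟩, k, h3⟩
    have h4 : l = (a : G) * (t ^ k)⁻¹ := by rw [h3]; group
    rw [h4]
    exact mul_mem (hAS a ha) ((S : Subgroup G).inv_mem (zpow_mem ht k))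
  have hAcomm : ∀ a ∈ (A : Subgroup H), ∀ b ∈ (A : Subgroup H), a * b = b * a := by
    intro a ha b hb
    obtain ⟨x, hx, k, hxk⟩ := hform a ha
    obtain ⟨y, hy, j, hyj⟩ := hform b hb
    apply Subtype.ext
    change (a : G) * b = b * a
    have c1 := hcen y hy (t ^ k) (zpow_mem ht k)
    have c2 := hcen x hx (t ^ j) (zpow_mem ht j)
    have c3 := hcen x hx y hy.1
    rw [hxk, hyj]
    calc x * t ^ k * (y * t ^ j) = x * (t ^ k * y) * t ^ j := by group
      _ = x * (y * t ^ k) * t ^ j := by rw [c1]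
      _ = (x * y) * (t ^ k * t ^ j) := by group
      _ = (y * x) * (t ^ k * t ^ j) := by rw [c3]
      _ = (y * x) * (t ^ j * t ^ k) := by rw [← zpow_add, ← zpow_add, add_comm]
      _ = y * (x * t ^ j) * t ^ k := by group
      _ = y * (t ^ j * x) * t ^ k := by rw [c2]
      _ = y * t ^ j * (x * t ^ k) := by group
  -- the hypotheses of `le_of_centralizer_eq_bot`
  set K := L.subgroupOf H with hK
  have hKn : K.Normal := inferInstance
  have eK : K ≃* L := subgroupOfEquivOfLe hLH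
  have hKs : IsSimpleGroup K := by
    have : Nontrivial K := eK.toEquiv.nontrivial
    exact IsSimpleGroup.isSimpleGroup_of_surjective eK.symm.toMonoidHom eK.symm.surjective
  have hKc : centralizer (K : Set H) = ⊥ := by
    rw [eq_bot_iff]
    intro x hx
    have h3 : (x : G) ∈ centralizer (L : Set G) := by
      rw [mem_centralizer_iff]
      intro l hl
      have := mem_centralizer_iff.1 hx ⟨l, hLH hl⟩ hl
      exact congrArg Subtype.val this
    rw [h.cent, mem_bot] at h3
    rw [mem_bot]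
    exact Subtype.ext h3
  have htA : (⟨t, htH⟩ : H) ∈ (A : Subgroup H) := hA (show t ∈ A₀ from ⟨ht, htH⟩)
  have hKA : K ⊔ (A : Subgroup H) = ⊤ := by
    rw [eq_top_iff]
    rintro ⟨a, ha⟩ -
    have h3 := ha
    rw [hH, mem_sup_of_normal_left] at h3
    obtain ⟨l, hl, y, ⟨k, rfl⟩, hly⟩ := h3
    have h5 : (⟨a, ha⟩ : H) = ⟨l, hLH hl⟩ * ⟨t, htH⟩ ^ k := by
      apply Subtype.ext
      rw [coe_mul, coe_zpow]
      exact hly.symm
    rw [h5]
    exact mul_mem (mem_sup_left hl) (mem_sup_right (zpow_mem htA k))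
  have heven : 2 ∣ Nat.card K := by
    rw [Nat.card_congr eK.toEquiv]
    have h5 : IsPGroup 2 S₀ := S.2.to_le inf_le_left
    obtain ⟨n, hn⟩ := IsPGroup.iff_card.1 h5
    have h6 : n ≠ 0 := by
      rintro rfl
      exact hne (card_eq_one.1 (by rw [hn, pow_zero]))
    exact ((dvd_pow_self 2 h6).trans hn.symm.dvd).trans (card_dvd_of_le inf_le_right)
  have h7 := Walter.AbInner.le_of_centralizer_eq_bot K hKs hKc A hAcomm hKA heven htA
  exact h7

omit [Finite G] in
/-- a 2-element which induces an inner automorphism -/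
theorem mem_of_inner (h : AS L S) {t : G} (x : L) (hx : ∀ y : L, t * y * t⁻¹ = x * y * (x : G)⁻¹) : t ∈ L := by
  have h1 : (x : G)⁻¹ * t ∈ centralizer (L : Set G) := by
    rw [mem_centralizer_iff]
    intro l hl
    have h2 := hx ⟨l, hl⟩
    change t * l * t⁻¹ = x * l * (x : G)⁻¹ at h2
    calc l * ((x : G)⁻¹ * t) = (x : G)⁻¹ * (x * l * (x : G)⁻¹) * t := by group
      _ = (x : G)⁻¹ * (t * l * t⁻¹) * t := by rw [h2]
      _ = (x : G)⁻¹ * t * l := by group
  rw [h.cent, mem_bot] at h1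
  have h3 : t = x := by
    have := congrArg (fun y => (x : G) * y) h1
    simpa using this
  rw [h3]
  exact x.2

end AS

end Cfsg.Agent.H335
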