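import Mathlib
import Cfsg.Agent.OddHalf.Table.OutSz8
import Cfsg.Agent.H335.PSUAut
import Cfsg.Agent.H335.Almost

/-!
# Almost simple groups in which distinct Sylow 2-subgroups meet in cyclic groups, II

`AS.le` : if `L` is a simple normal subgroup of `G` with trivial centralizer and `CycInt G`, then `L` contains the Sylow
2-subgroups of `G`.
-/

set_option autoImplicit false

namespace Cfsg.Agent.H335

open Subgroup Cfsg
open Cfsg.Agent.Walter.Types

/-- automorphisms of 2-power order trivial on `N(P) / P` are inner -/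
def InnP (X : Type*) [Group X] : Prop :=
  ∀ (P : Sylow 2 X) (α : MulAut X), (∃ k : ℕ, α ^ 2 ^ k = 1) →
    (∀ x ∈ normalizer ((P : Subgroup X) : Set X), α x * x⁻¹ ∈ (P : Subgroup X)) → ∃ x, α = MulAut.conj x

theorem InnP.congr {X L : Type*} [Group X] [Group L] [Finite L] (h : InnP X) (e : X ≃* L) : InnP L := by
  rintro P α ⟨k, hk⟩ hN
  let β : MulAut X := (e.trans α).trans e.symm
  have hβ : ∀ x, e (β x) = α (e x) := fun x => e.apply_symm_apply _
  have hpow : ∀ (n : ℕ) (x : X), e ((β ^ n) x) = (α ^ n) (e x) := by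
    intro n
    induction n with
    | zero => intro x; rfl
    | succ n ih =>
      intro x
      rw [pow_succ', pow_succ', MulAut.mul_apply, MulAut.mul_apply, hβ, ih]
  have hk' : β ^ 2 ^ k = 1 := by
    ext x
    apply e.injective
    rw [hpow, hk]
    rfl
  let T : Sylow 2 X := P.mapSurjective (f := e.symm.toMonoidHom) e.symm.surjective
  have hT : ∀ x : X, x ∈ (T : Subgroup X) ↔ e x ∈ (P : Subgroup L) := by
    intro x
    constructor
    · rintro ⟨y, hy, rfl⟩
      change e (e.symm y) ∈ _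
      rw [e.apply_symm_apply]
      exact hy
    · intro hx
      exact ⟨e x, hx, e.symm_apply_apply x⟩
  obtain ⟨x, hx⟩ := h T β ⟨k, hk'⟩ (fun y hy => by
    rw [hT, map_mul, map_inv, hβ]
    apply hN
    rw [mem_normalizer_iff] at hy ⊢
    intro l
    obtain ⟨z, rfl⟩ := e.surjective l
    have h1 := hy z
    change z ∈ (T : Subgroup X) ↔ y * z * y⁻¹ ∈ (T : Subgroup X) at h1
    rw [hT, hT, map_mul, map_mul, map_inv] at h1
    exact h1)
  refine ⟨e x, ?_⟩
  ext l
  obtain ⟨y, rfl⟩ := e.surjective l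
  rw [← hβ, hx, MulAut.conj_apply, MulAut.conj_apply, map_mul, map_mul, map_inv]

theorem innP_suzuki {X : Type*} [Group X] (h : Cfsg.Lie.IsoSuzuki X) : InnP X := by
  obtain ⟨F, i1, i2, m, hm, hF, ⟨e⟩⟩ := h
  intro P α hα _
  exact OddHalf.Table.OutSz8.inner hm hF e α hα

theorem innP_psu {X : Type*} [Group X] [Finite X] (hC : CycInt X) {F : Type*} [Field F] [Fintype F] {n : ℕ} (hn : 2 ≤ n)
    (hF : Fintype.card F = (2 ^ n) ^ 2) (e : X ≃* Cfsg.PSU 3 F (2 ^ n)) : InnP X := by
  have h2 : Fact (Nat.Prime 2) := ⟨Nat.prime_two⟩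
  have hchar : CharP F 2 := by
    rw [← pow_mul] at hF
    exact charP_of_card_eq_prime_pow hF
  have h4 : 4 ≤ 2 ^ n := by
    calc 4 = 2 ^ 2 := by norm_num
      _ ≤ 2 ^ n := Nat.pow_le_pow_right (by norm_num) hn
  have hi : InnP (Cfsg.PSU 3 F (2 ^ n)) := fun P α hα hN => PSUAut.inner hF h4 (hC.congr e) P α hα hN
  exact hi.congr e.symm

namespace AS

variable {G : Type*} [Group G] [Finite G] {L : Subgroup G} {S : Sylow 2 G}

theorem le_of_innP (h : AS L S) (hL : InnP L) : (S : Subgroup G) ≤ L := by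
  have hn := h.normal
  obtain ⟨P, hP⟩ := h.exists_sylow
  intro t ht
  have hc : ∀ y : L, ((MulAut.conjNormal t y : L) : G) = t * y * t⁻¹ := fun y => MulAut.conjNormal_apply t y
  obtain ⟨k, hk⟩ := S.2 ⟨t, ht⟩
  have hk' : t ^ 2 ^ k = 1 := congrArg Subtype.val hk
  obtain ⟨x, hx⟩ := hL P (MulAut.conjNormal t) ⟨k, by rw [← map_pow, hk', map_one]⟩ (fun n hn => by
    rw [hP]
    change ((MulAut.conjNormal t n : L) : G) * (n : G)⁻¹ ∈ (S : Subgroup G)
    rw [hc]
    exact (h.comm_mem hP hn ht).1)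
  refine h.mem_of_inner x fun y => ?_
  rw [← hc, hx]
  rfl

/-- **`L` contains the Sylow 2-subgroups.** -/
theorem le (h : AS L S) : (S : Subgroup G) ≤ L := by
  have hs := h.simple
  rcases (h.cyc.subgroup L).simple h.nonab with h1 | h1 | ⟨F, i1, i2, n, hn, hF, ⟨e⟩⟩
  · exact h.le_of_wType h1.1
  · exact h.le_of_innP (innP_suzuki h1)
  · exact h.le_of_innP (innP_psu (h.cyc.subgroup L) hn hF e)

theorem odd_index (h : AS L S) : Odd L.index := by
  have h2 : Fact (Nat.Prime 2) := ⟨Nat.prime_two⟩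
  have h1 : (S : Subgroup G).index = (S : Subgroup G).relIndex L * L.index := (relIndex_mul_index h.le).symm
  have h3 : ¬ 2 ∣ (S : Subgroup G).index := S.not_dvd_index
  rw [← Nat.not_even_iff_odd, even_iff_two_dvd]
  intro h4
  exact h3 (h1 ▸ h4.mul_left _)

end AS

end Cfsg.Agent.H335
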